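import Cfsg.Agent.H632.LB.FamS
import Cfsg.Agent.H632.LB.Fam1
import Cfsg.Agent.H632.LB.Fam2
import Cfsg.Agent.H632.LB.Fam3
import Cfsg.Agent.H632.LB.Fam4
import Cfsg.Agent.H632.LB.Fam5
import Cfsg.Agent.H632.LB.Fam6

/-!
# The orbits of `J` on the states of the nodes `6` and `7` of `E₈`: all of it (helper632, for S4879)
-/

set_option autoImplicit false

namespace Cfsg.Agent.H632.LB.Fam

/-- node `6` -/
def dat6 : List (List ℕ × ℕ × ℕ) :=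
  [([], V0, Z0),
    ([0], V1, Z1),
    ([1], V2, Z2),
    ([2], V3, Z3),
    ([4], V4, Z4),
    ([5], V5, Z5),
    ([6], V6, Z6),
    ([0, 1], V7, Z7),
    ([0, 2], V8, Z8),
    ([0, 4], V9, Z9),
    ([0, 5], V10, Z10),
    ([0, 6], V11, Z11),
    ([1, 2], V12, Z12),
    ([1, 4], V13, Z13),
    ([1, 5], V14, Z14),
    ([2, 4], V15, Z15),
    ([2, 5], V16, Z16),
    ([2, 6], V17, Z17),
    ([4, 5], V18, Z18),
    ([4, 6], V19, Z19),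
    ([5, 6], V20, Z20),
    ([0, 1, 2], V21, Z21),
    ([0, 1, 4], V22, Z22),
    ([0, 1, 5], V23, Z23),
    ([0, 2, 4], V24, Z24),
    ([0, 2, 5], V25, Z25),
    ([0, 2, 6], V26, Z26),
    ([0, 4, 5], V27, Z27),
    ([0, 4, 6], V28, Z28),
    ([0, 5, 6], V29, Z29),
    ([1, 2, 4], V30, Z30),
    ([1, 2, 5], V31, Z31),
    ([1, 4, 5], V32, Z32),
    ([2, 4, 5], V33, Z33),
    ([2, 4, 6], V34, Z34),
    ([2, 5, 6], V35, Z35),
    ([4, 5, 6], V36, Z36),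
    ([0, 1, 2, 4], V37, Z37),
    ([0, 1, 2, 5], V38, Z38),
    ([0, 1, 4, 5], V39, Z39),
    ([0, 2, 4, 5], V40, Z40),
    ([0, 2, 4, 6], V41, Z41),
    ([0, 2, 5, 6], V42, Z42),
    ([0, 4, 5, 6], V43, Z43),
    ([1, 2, 4, 5], V44, Z44),
    ([2, 4, 5, 6], V45, Z45),
    ([0, 1, 2, 4, 5], V46, Z46),
    ([0, 2, 4, 5, 6], V47, Z47)]

theorem dat6_ok : ∀ x ∈ dat6, Ok6 x := by
  unfold dat6
  simp only [List.forall_mem_cons, List.not_mem_nil, false_imp_iff, implies_true, and_true]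
  exact ⟨ok0, ok1, ok2, ok3, ok4, ok5, ok6, ok7, ok8, ok9, ok10, ok11, ok12, ok13, ok14, ok15, ok16, ok17, ok18, ok19, ok20, ok21, ok22, ok23, ok24, ok25, ok26, ok27, ok28, ok29, ok30, ok31, ok32, ok33, ok34, ok35, ok36, ok37, ok38, ok39, ok40, ok41, ok42, ok43, ok44, ok45, ok46, ok47⟩

/-- node `7` -/
def dat7 : List (List ℕ × ℕ × ℕ) :=
  [([], W0, Y0),
    ([0], W1, Y1),
    ([1], W2, Y2),
    ([2], W3, Y3),
    ([4], W4, Y4),
    ([5], W5, Y5),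
    ([6], W6, Y6),
    ([0, 1], W7, Y7),
    ([0, 2], W8, Y8),
    ([0, 4], W9, Y9),
    ([0, 5], W10, Y10),
    ([0, 6], W11, Y11),
    ([1, 2], W12, Y12),
    ([1, 4], W13, Y13),
    ([1, 5], W14, Y14),
    ([2, 4], W15, Y15),
    ([2, 5], W16, Y16),
    ([2, 6], W17, Y17),
    ([4, 5], W18, Y18),
    ([4, 6], W19, Y19),
    ([5, 6], W20, Y20),
    ([0, 1, 2], W21, Y21),
    ([0, 1, 4], W22, Y22),
    ([0, 1, 5], W23, Y23),
    ([0, 2, 4], W24, Y24),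
    ([0, 2, 5], W25, Y25),
    ([0, 2, 6], W26, Y26),
    ([0, 4, 5], W27, Y27),
    ([0, 4, 6], W28, Y28),
    ([0, 5, 6], W29, Y29),
    ([1, 2, 4], W30, Y30),
    ([1, 2, 5], W31, Y31),
    ([1, 4, 5], W32, Y32),
    ([2, 4, 5], W33, Y33),
    ([2, 4, 6], W34, Y34),
    ([2, 5, 6], W35, Y35),
    ([4, 5, 6], W36, Y36),
    ([0, 1, 2, 4], W37, Y37),
    ([0, 1, 2, 5], W38, Y38),
    ([0, 1, 4, 5], W39, Y39),
    ([0, 2, 4, 5], W40, Y40),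
    ([0, 2, 4, 6], W41, Y41),
    ([0, 2, 5, 6], W42, Y42),
    ([0, 4, 5, 6], W43, Y43),
    ([1, 2, 4, 5], W44, Y44),
    ([2, 4, 5, 6], W45, Y45),
    ([0, 1, 2, 4, 5], W46, Y46),
    ([0, 2, 4, 5, 6], W47, Y47)]

theorem dat7_ok : ∀ x ∈ dat7, Ok7 x := by
  unfold dat7
  simp only [List.forall_mem_cons, List.not_mem_nil, false_imp_iff, implies_true, and_true]
  exact ⟨ok7_0, ok7_1, ok7_2, ok7_3, ok7_4, ok7_5, ok7_6, ok7_7, ok7_8, ok7_9, ok7_10, ok7_11, ok7_12, ok7_13, ok7_14, ok7_15, ok7_16, ok7_17, ok7_18, ok7_19, ok7_20, ok7_21, ok7_22, ok7_23, ok7_24, ok7_25, ok7_26, ok7_27, ok7_28, ok7_29, ok7_30, ok7_31, ok7_32, ok7_33, ok7_34, ok7_35, ok7_36, ok7_37, ok7_38, ok7_39, ok7_40, ok7_41, ok7_42, ok7_43, ok7_44, ok7_45, ok7_46, ok7_47⟩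

end Cfsg.Agent.H632.LB.Fam
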