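import Cfsg.Agent.H632.LB.Mat

/-!
# `E₈`, `11 ∣ Φ₅(q)`: the 10 x 10 matrices (helper632, for S4879; made by a program)

* `ent (V, b) K` : the multiplicity at `K` of a member with table `V` (`b = false`) or of its dual (`b = true`);
* `detC` : `1, 8, 84, 112, 567, 1344` and the duals of `1, 84, 567, 1344`;
* `detA` : `1, 84, 567, 1344, 28` and the duals;
* `det_snoc` : one more row and column.
-/

set_option autoImplicit false
set_option linter.unusedSectionVars false
set_option maxRecDepth 20000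

namespace Cfsg.Agent.H632.LB.Val.Five

open Cfsg.Agent.H632.LB.Val.Mat

/-- a column: a table and whether the dual is meant -/
def ent (c : ℕ × Bool) (K : Finset (Fin 8)) : ℤ := if c.2 then dl c.1 K else (look c.1 K : ℤ)

/-- a matrix -/
def mk10 (L : List (List ℤ)) : Matrix (Fin 10) (Fin 10) ℤ := Matrix.of fun i j => (L.getD i []).getD j 0

theorem det_ne10 {A B : Matrix (Fin 10) (Fin 10) ℤ} {d : ℤ} (hd : d ≠ 0)
    (h : ∀ i j, (∑ k, A i k * B k j) = if i = j then d else 0) : A.det ≠ 0 := by
  have h1 : A * B = Matrix.diagonal fun _ => d := by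
    ext i j
    rw [Matrix.mul_apply, h, Matrix.diagonal_apply]
  intro h2
  have h3 := congrArg Matrix.det h1
  rw [Matrix.det_mul, h2, zero_mul, Matrix.det_diagonal, Finset.prod_const] at h3
  exact pow_ne_zero _ hd h3.symm

/-- one more row and column -/
theorem det_snoc {n : ℕ} {B : Matrix (Fin (n + 1)) (Fin (n + 1)) ℂ} (h0 : ∀ i : Fin n, B i.castSucc (Fin.last n) = 0)
    (h1 : B (Fin.last n) (Fin.last n) ≠ 0) (h2 : (B.submatrix Fin.castSucc Fin.castSucc).det ≠ 0) : B.det ≠ 0 := by
  rw [Matrix.det_succ_column B (Fin.last n), Fin.sum_univ_castSucc,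
    Finset.sum_eq_zero (fun i _ => by rw [h0, mul_zero, zero_mul]), zero_add]
  refine mul_ne_zero (mul_ne_zero (pow_ne_zero _ (neg_ne_zero.2 one_ne_zero)) h1) ?_
  rw [Fin.succAbove_last]
  exact h2

/-- the multiplicities of `28` -/
def V28 : ℕ := 0x30006000000000006000a00000000000000000000000000000000000000000006000a00000000000a000f00000000000000000000000000000000000000000006000a00000000000a000f0000000000000000000000000000000000000000000a000f00000000000f001500000000000000000000000000000000000300060006000a0006000a000a000f000000000000000000000000000000000006000a000a000f000a000f000f0015000000000000000000000000000000000006000a000a000f000a000f000f001500000000000000000000000000000000000a000f000f0015000f00150015001c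

theorem look_V28 : ∀ K, Inn K → look V28 K = Nat.choose (8 - K.card) 2 := by decide +kernel

/-- the sets of nodes for `C` -/
def rowsC : Fin 10 → Finset (Fin 8) :=
  ![∅, {0}, {0, 1}, {0, 2}, {0, 1, 2}, {0, 1, 4}, {0, 1, 2, 4}, {0, 2, 4, 5}, {0, 4, 5, 6}, {0, 1, 2, 4, 5}]

theorem inn_rowsC : ∀ i, Inn (rowsC i) := by decide +kernel

/-- the sets of nodes for `A` -/
def rowsA : Fin 10 → Finset (Fin 8) :=
  ![∅, {0}, {0, 1}, {0, 2}, {0, 1, 2}, {0, 1, 4}, {0, 1, 2, 4}, {0, 2, 4, 5}, {0, 1, 2, 4, 5}, {0, 2, 4, 5, 6}]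

theorem inn_rowsA : ∀ i, Inn (rowsA i) := by decide +kernel

/-- the columns: `1, 8, 84, 112, 567, 1344` and the duals of `1, 84, 567, 1344` -/
def colC : Fin 10 → ℕ × Bool := ![(V1, false), (V8, false), (V84, false), (V112, false), (V567, false), (V1344, false),
  (V1, true), (V84, true), (V567, true), (V1344, true)]

/-- the columns: `1, 84, 567, 1344, 28` and the duals -/
def colA : Fin 10 → ℕ × Bool := ![(V1, false), (V84, false), (V567, false), (V1344, false), (V28, false),
  (V1, true), (V84, true), (V567, true), (V1344, true), (V28, true)]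

/-- the matrix -/
def EM (rows : Fin 10 → Finset (Fin 8)) (col : Fin 10 → ℕ × Bool) : Matrix (Fin 10) (Fin 10) ℤ :=
  Matrix.of fun i j => ent (col j) (rows i)

/-- the matrix for `C` -/
def LC : List (List ℤ) :=
  [[1, 8, 84, 112, 567, 1344, 1, 84, 567, 1344],
    [1, 7, 63, 84, 378, 840, 0, 21, 189, 504],
    [1, 6, 47, 62, 246, 520, 0, 5, 57, 184],
    [1, 6, 42, 57, 216, 420, 0, 0, 27, 84],
    [1, 5, 31, 41, 135, 255, 0, 0, 6, 29],
    [1, 5, 35, 45, 156, 320, 0, 1, 15, 64],
    [1, 4, 23, 29, 82, 155, 0, 0, 1, 9],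
    [1, 4, 20, 26, 69, 120, 0, 0, 0, 4],
    [1, 4, 19, 25, 65, 107, 0, 0, 0, 1],
    [1, 3, 15, 18, 40, 73, 0, 0, 0, 1]]

/-- the multiple of the inverse -/
def IC : List (List ℤ) :=
  [[0, 2070, -11298, -672, 19110, 13020, -39060, 12600, -14490, 20160],
    [0, 1440, -12384, 2304, -14400, 31680, -17280, -34560, 43200, 0],
    [0, -690, 3558, -528, -3090, -3300, 9900, -15000, 11550, -2400],
    [0, 0, 1440, 0, 4320, -7200, 0, 23040, -21600, 0],
    [0, -90, 430, -160, -10, -260, 780, -3240, 2550, 0],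
    [0, 105, -667, 112, -95, 1130, -1230, 420, -15, 240],
    [1440, -13590, 44514, 7776, -31590, -58140, 66420, 42120, -38790, -20160],
    [0, 690, -4006, -464, 2290, 6980, -7980, -5160, 5250, 2400],
    [0, 90, -494, 224, -310, 580, -300, 360, -150, 0],
    [0, -105, 651, -96, 15, -1050, 990, 300, -465, -240]]

/-- the matrix for `A` -/
def LA : List (List ℤ) :=
  [[1, 84, 567, 1344, 28, 1, 84, 567, 1344, 28],
    [1, 63, 378, 840, 21, 0, 21, 189, 504, 7],
    [1, 47, 246, 520, 15, 0, 5, 57, 184, 1],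
    [1, 42, 216, 420, 15, 0, 0, 27, 84, 1],
    [1, 31, 135, 255, 10, 0, 0, 6, 29, 0],
    [1, 35, 156, 320, 10, 0, 1, 15, 64, 0],
    [1, 23, 82, 155, 6, 0, 0, 1, 9, 0],
    [1, 20, 69, 120, 6, 0, 0, 0, 4, 0],
    [1, 15, 40, 73, 3, 0, 0, 0, 1, 0],
    [1, 12, 30, 48, 3, 0, 0, 0, 0, 0]]

/-- the multiple of the inverse -/
def IA : List (List ℤ) :=
  [[0, 855, -4473, -1512, 12600, 4410, -7560, -15120, 0, 12600],
    [0, -110, 526, 244, -1900, -320, 420, 2340, 600, -1800],
    [0, 115, -669, -136, 1800, 930, -4680, 840, 3600, -1800],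
    [0, -35, 221, 24, -500, -370, 1920, -660, -1500, 900],
    [0, -435, 2541, 504, -6600, -3570, 16920, -2160, -14400, 7200],
    [1800, -13035, 26901, 13944, -50400, -11970, 15120, 30240, 0, -12600],
    [0, 310, -1006, -1164, 4300, 320, -420, -3540, -600, 1800],
    [0, -215, 1449, 56, -1200, -2730, 6480, -2040, -3600, 1800],
    [0, 55, -413, 28, 200, 910, -2460, 1080, 1500, -900],
    [0, 1335, -8481, 936, 3000, 14370, -27720, 9360, 14400, -7200]]

theorem EMC' : ∀ i j : Fin 10, ((EM rowsC colC i j : ℤ) == (mk10 LC i j : ℤ)) = true := by decide +kernel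

theorem EMC : EM rowsC colC = mk10 LC := by
  ext i j
  exact eq_of_beq (EMC' i j)

theorem EMA' : ∀ i j : Fin 10, ((EM rowsA colA i j : ℤ) == (mk10 LA i j : ℤ)) = true := by decide +kernel

theorem EMA : EM rowsA colA = mk10 LA := by
  ext i j
  exact eq_of_beq (EMA' i j)

theorem invC : ∀ i j, (∑ k, mk10 LC i k * mk10 IC k j) = if i = j then 1440 else 0 := by decide +kernel

theorem invA : ∀ i j, (∑ k, mk10 LA i k * mk10 IA k j) = if i = j then 1800 else 0 := by decide +kernel

/-- **The determinant, `1, 8, 84, 112, 567, 1344` and the duals of `1, 84, 567, 1344`.** -/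
theorem detC : (EM rowsC colC).det ≠ 0 := by
  rw [EMC]
  exact det_ne10 (by norm_num) invC

/-- **The determinant, `1, 84, 567, 1344, 28` and the duals.** -/
theorem detA : (EM rowsA colA).det ≠ 0 := by
  rw [EMA]
  exact det_ne10 (by norm_num) invA

end Cfsg.Agent.H632.LB.Val.Five
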