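import Cfsg.Agent.H632.LB.Val

/-!
# `E₈`: the 11 x 11 matrices of the multiplicities of the members and their duals (helper632, for S4879; made by a program)

`rows i` : eleven sets `K` of nodes of types `∅, A₁, A₂, 3A₁, A₂A₁, A₃, A₂+2A₁, 2A₂, A₃A₁, 2A₂A₁, A₃A₂`.
* `det5` : `1, 8, 84, 112, 567, 1344` and the duals of the first five;
* `det10` : `1, 8, 84, 567, 448, 1400` and the duals of the first five;
* `mu_AM`, `mu_five`, `mu_ten` : the multiplicities are the entries.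
-/

set_option autoImplicit false
set_option linter.unusedSectionVars false
set_option maxRecDepth 20000

namespace Cfsg.Agent.H632.LB.Val.Mat

open Cfsg Cfsg.Agent.H967.Sph Cfsg.Agent.H317.PQ Cfsg.Agent.H64.Dl.Sph
  Cfsg.Agent.H996.Eight Cfsg.Agent.H996.Eight.Cert Cfsg.Agent.H996.PQ Cfsg.Agent.H996.PQ.Big
open Cfsg.Agent.H790.PQ Cfsg.Agent.H594.PQ Cfsg.Agent.H594.LB.Mem Cfsg.Agent.H329.LB Cfsg.Agent.H594.LB.Mu
open CoxeterSystem Cfsg.Agent.ChevalleyStructure.CoxeterGeom Cfsg.Agent.Tits.Roots Cfsg.Agent.Tits.Core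
  Cfsg.Agent.Nodes.Reps Cfsg.Agent.Nodes.BNOf Cfsg.Agent.Nodes.Bruhat Cfsg.Agent.Nodes.LeviDec
open Cfsg.Agent.H439.CC (mu)
open Cfsg.Agent.H632.LB Cfsg.Agent.H632.PQ.Fast

universe u v

/-- the sets of nodes -/
def rows : Fin 11 → Finset (Fin 8) :=
  ![∅, {0}, {0, 2}, {0, 1, 4}, {0, 1, 2}, {4, 5, 6}, {0, 1, 2, 4}, {0, 2, 4, 5}, {0, 4, 5, 6}, {0, 1, 2, 4, 5}, {0, 2, 4, 5, 6}]

theorem inn_rows : ∀ i, Inn (rows i) := by decide +kernel

theorem Inn.sub {K L : Finset (Fin 8)} (hK : Inn K) (h : L ⊆ K) : Inn L := by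
  rcases hK with hK | hK
  · exact Or.inl (h.trans hK)
  · exact Or.inr (h.trans hK)

/-- the multiplicities of the trivial character -/
def V1 : ℕ := 0x1000100000000000100010000000000000000000000000000000000000000000100010000000000010001000000000000000000000000000000000000000000010001000000000001000100000000000000000000000000000000000000000001000100000000000100010000000000000000000000000000000000010001000100010001000100010001000000000000000000000000000000000001000100010001000100010001000100000000000000000000000000000000000100010001000100010001000100010000000000000000000000000000000000010001000100010001000100010001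

theorem look_V1 : ∀ K, Inn K → look V1 K = 1 := by decide +kernel

/-- the multiplicities of the dual -/
def dl (V : ℕ) (K : Finset (Fin 8)) : ℤ := ∑ L ∈ K.powerset, (-1) ^ L.card * (look V L : ℤ)

/-- the matrix of the multiplicities -/
def AM (V : Fin 6 → ℕ) : Matrix (Fin 11) (Fin 11) ℤ := Matrix.of fun i =>
  (Fin.append (fun j : Fin 6 => (look (V j) (rows i) : ℤ)) (fun j : Fin 5 => dl (V j.castSucc) (rows i)) : Fin 11 → ℤ)

/-- a matrix -/
def mk (L : List (List ℤ)) : Matrix (Fin 11) (Fin 11) ℤ := Matrix.of fun i j => (L.getD i []).getD j 0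

theorem det_ne {A B : Matrix (Fin 11) (Fin 11) ℤ} {d : ℤ} (hd : d ≠ 0) (h : ∀ i j, (∑ k, A i k * B k j) = if i = j then d else 0) :
    A.det ≠ 0 := by
  have h1 : A * B = Matrix.diagonal fun _ => d := by
    ext i j
    rw [Matrix.mul_apply, h, Matrix.diagonal_apply]
  intro h2
  have h3 := congrArg Matrix.det h1
  rw [Matrix.det_mul, h2, zero_mul, Matrix.det_diagonal, Finset.prod_const] at h3
  exact pow_ne_zero _ hd h3.symm

/-- the tables of `1, 8, 84, 112, 567, 1344` -/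
def VV5 : Fin 6 → ℕ := ![V1, V8, V84, V112, V567, V1344]

/-- the tables of `1, 8, 84, 567, 448, 1400` -/
def VV10 : Fin 6 → ℕ := ![V1, V8, V84, V567, V448, V1400]

/-- the matrix of `1, 8, 84, 112, 567, 1344` and the duals of the first five -/
def L5 : List (List ℤ) :=
  [[1, 8, 84, 112, 567, 1344, 1, 8, 84, 112, 567],
    [1, 7, 63, 84, 378, 840, 0, 1, 21, 28, 189],
    [1, 6, 42, 57, 216, 420, 0, 0, 0, 1, 27],
    [1, 5, 35, 45, 156, 320, 0, 0, 1, 1, 15],
    [1, 5, 31, 41, 135, 255, 0, 0, 0, 0, 6],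
    [1, 5, 26, 36, 110, 180, 0, 0, 0, 0, 1],
    [1, 4, 23, 29, 82, 155, 0, 0, 0, 0, 1],
    [1, 4, 20, 26, 69, 120, 0, 0, 0, 0, 0],
    [1, 4, 19, 25, 65, 107, 0, 0, 0, 0, 0],
    [1, 3, 15, 18, 40, 73, 0, 0, 0, 0, 0],
    [1, 3, 12, 15, 30, 48, 0, 0, 0, 0, 0]]

/-- the multiple of the inverse -/
def I5 : List (List ℤ) :=
  [[0, 0, 0, 0, 9, 171, -225, 450, -675, 225, 75],
    [0, 0, 0, 0, -54, -36, 360, -480, 330, -300, 180],
    [0, 0, 0, 0, -30, 0, 180, -315, 195, -75, 45],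
    [0, 0, 0, 0, 45, -15, -255, 390, -195, 135, -105],
    [0, 0, 0, 0, -7, 7, 35, -60, 25, -15, 15],
    [0, 0, 0, 0, 1, -1, -5, 15, -10, 0, 0],
    [30, -240, 840, 2520, -5805, 1905, 795, 690, -435, -225, -75],
    [0, 30, -210, -630, 1818, -738, -720, -240, 570, 300, -180],
    [0, 0, -30, 30, 88, -28, -140, -105, 155, 75, -45],
    [0, 0, 30, 0, -195, 105, 255, 90, -255, -135, 105],
    [0, 0, 0, 0, 11, -11, -25, 0, 25, 15, -15]]

/-- the matrix of `1, 8, 84, 567, 448, 1400` and the duals of the first five -/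
def L10 : List (List ℤ) :=
  [[1, 8, 84, 567, 448, 1400, 1, 8, 84, 567, 448],
    [1, 7, 63, 378, 280, 875, 0, 1, 21, 189, 168],
    [1, 6, 42, 216, 136, 440, 0, 0, 0, 27, 24],
    [1, 5, 35, 156, 112, 330, 0, 0, 1, 15, 24],
    [1, 5, 31, 135, 86, 265, 0, 0, 0, 6, 10],
    [1, 5, 26, 110, 56, 190, 0, 0, 0, 1, 0],
    [1, 4, 23, 82, 56, 159, 0, 0, 0, 1, 4],
    [1, 4, 20, 69, 42, 124, 0, 0, 0, 0, 2],
    [1, 4, 19, 65, 36, 111, 0, 0, 0, 0, 0],
    [1, 3, 15, 40, 29, 74, 0, 0, 0, 0, 1],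
    [1, 3, 12, 30, 18, 49, 0, 0, 0, 0, 0]]

/-- the multiple of the inverse -/
def I10 : List (List ℤ) :=
  [[0, 0, 50, 0, -700, 4500, -1650, 4250, -12450, 3900, 2800],
    [0, 0, 540, 0, -3332, 552, 4860, 3060, -3280, -5200, 2800],
    [0, 0, -420, 0, 2506, -1666, -2030, -4130, 5740, 1400, -1400],
    [0, 0, 170, 0, -896, 656, 130, 2130, -2290, 100, 0],
    [0, 0, 285, 0, -1603, 933, 990, 2840, -3345, -450, 350],
    [0, 0, -140, 0, 742, -462, -210, -1610, 1680, 0, 0],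
    [700, -5600, 19270, 58800, -133476, 43436, 16630, 12830, -5890, -3900, -2800],
    [0, 700, -4180, -14700, 38234, -14874, -13470, 930, 4960, 5200, -2800],
    [0, 0, -140, 700, -1778, 1358, 2590, -2310, -420, -1400, 1400],
    [0, 0, 110, 0, -448, 128, 290, 390, -370, -100, 0],
    [0, 0, -75, 0, 525, -275, -850, 100, 475, 450, -350]]

theorem AM5' : ∀ i j : Fin 11, ((AM VV5 i j : ℤ) == (mk L5 i j : ℤ)) = true := by decide +kernel

theorem AM5 : AM VV5 = mk L5 := by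
  ext i j
  exact eq_of_beq (AM5' i j)

theorem AM10' : ∀ i j : Fin 11, ((AM VV10 i j : ℤ) == (mk L10 i j : ℤ)) = true := by decide +kernel

theorem AM10 : AM VV10 = mk L10 := by
  ext i j
  exact eq_of_beq (AM10' i j)

theorem inv5 : ∀ i j, (∑ k, mk L5 i k * mk I5 k j) = if i = j then 30 else 0 := by decide +kernel

theorem inv10 : ∀ i j, (∑ k, mk L10 i k * mk I10 k j) = if i = j then 700 else 0 := by decide +kernel

/-- **The determinant, `1, 8, 84, 112, 567, 1344` and duals.** -/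
theorem det5 : (AM VV5).det ≠ 0 := by
  rw [AM5]
  exact det_ne (by norm_num) inv5

/-- **The determinant, `1, 8, 84, 567, 448, 1400` and duals.** -/
theorem det10 : (AM VV10).det ≠ 0 := by
  rw [AM10]
  exact det_ne (by norm_num) inv10

theorem mu_triv {Y : Type u} [Group Y] [Finite Y] (P : Subgroup Y) : mu P (1 : Y → ℂ) = 1 := by
  have := Fintype.ofFinite P
  have h0 : (Nat.card P : ℂ) ≠ 0 := Nat.cast_ne_zero.2 Nat.card_pos.ne'
  unfold H439.CC.mu
  rw [finsum_eq_sum_of_fintype]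
  simp only [Pi.one_apply, Finset.sum_const, Finset.card_univ, nsmul_eq_mul, mul_one]
  rw [← Nat.card_eq_fintype_card, inv_mul_cancel₀ h0]

section Mu

variable {W : Type v} {Y : Type u} [Group W] [Group Y]
    {M : CoxeterMatrix (Fin 8)} {cs : CoxeterSystem M W} {A : Fin 8 → Fin 8 → ℤ} {h : IsCartan M A} {T : Subgroup Y}
    {X : (Fin 8 → ℤ) → Subgroup Y}

/-- the dual -/
theorem mu_dl {V : ℕ} {χ χ' : Y → ℂ}
    (hχ : ∀ K, Inn K → mu (PJ cs h T X (K : Set (Fin 8))) χ = ((look V K : ℕ) : ℂ))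
    (hD : ∀ K : Finset (Fin 8), Inn K → mu (PJ cs h T X (K : Set (Fin 8))) χ' =
      ∑ L ∈ K.powerset, (-1) ^ L.card * mu (PJ cs h T X (L : Set (Fin 8))) χ) {K : Finset (Fin 8)} (hK : Inn K) :
    mu (PJ cs h T X (K : Set (Fin 8))) χ' = ((dl V K : ℤ) : ℂ) := by
  rw [hD K hK, dl]
  push_cast
  refine Finset.sum_congr rfl fun L hL => ?_
  rw [hχ L (Inn.sub hK (Finset.mem_powerset.1 hL))]

/-- **The entries.** -/
theorem mu_AM {V : Fin 6 → ℕ} {χ : Fin 6 → Y → ℂ} {χ' : Fin 5 → Y → ℂ}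
    (hχ : ∀ j K, Inn K → mu (PJ cs h T X (K : Set (Fin 8))) (χ j) = ((look (V j) K : ℕ) : ℂ))
    (hD : ∀ (j : Fin 5) (K : Finset (Fin 8)), Inn K → mu (PJ cs h T X (K : Set (Fin 8))) (χ' j) =
      ∑ L ∈ K.powerset, (-1) ^ L.card * mu (PJ cs h T X (L : Set (Fin 8))) (χ j.castSucc)) (i j : Fin 11) :
    mu (PJ cs h T X (rows i : Set (Fin 8))) ((Fin.append χ χ' : Fin 11 → Y → ℂ) j) = ((AM V i j : ℤ) : ℂ) := by
  show mu (PJ cs h T X (rows i : Set (Fin 8))) ((Fin.append χ χ' : Fin (6 + 5) → Y → ℂ) j) =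
    (((Fin.append (fun j : Fin 6 => (look (V j) (rows i) : ℤ)) (fun j : Fin 5 => dl (V j.castSucc) (rows i)) :
      Fin (6 + 5) → ℤ) j : ℤ) : ℂ)
  refine Fin.addCases (m := 6) (n := 5) (motive := fun j => mu (PJ cs h T X (rows i : Set (Fin 8)))
    ((Fin.append χ χ' : Fin (6 + 5) → Y → ℂ) j) = (((Fin.append (fun j : Fin 6 => (look (V j) (rows i) : ℤ))
      (fun j : Fin 5 => dl (V j.castSucc) (rows i)) : Fin (6 + 5) → ℤ) j : ℤ) : ℂ)) (fun j => ?_) (fun j => ?_) j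
  · rw [Fin.append_left, Fin.append_left, hχ j _ (inn_rows i)]
    push_cast
    rfl
  · rw [Fin.append_right, Fin.append_right]
    exact mu_dl (hχ _) (hD j) (inn_rows i)

end Mu

section Mem

variable {W : Type v} {Y : Type u} [Group W] [Finite W] [Group Y] [Finite Y]
    {M : CoxeterMatrix (Fin 8)} {cs : CoxeterSystem M W} {h : IsCartan M TabE8c.A} {p : ℕ} {T : Subgroup Y}
    {n : Fin 8 → Y} {X : (Fin 8 → ℤ) → Subgroup Y} (R : RGD cs h p T n X) (hG : GG cs h T X = ⊤)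

variable (hF : Fam cs h) {x : ℕ} (hx : 2 ≤ x) (hq : ∀ i, Nat.card (X (sr i)) = x)

include hF hx hq

/-- **The members for `Φ₅`** -/
theorem mu_five {χ : Fin 6 → Y → ℂ} (h0 : χ 0 = 1) (h8 : Is7 R hG x TabE8a.c1 (χ 1)) (h84 : Is7 R hG x TabE8a.c3 (χ 2))
    (h112 : Is7 R hG x TabE8a.c4 (χ 3)) (h567 : Is6 R hG x E567.C (χ 4)) (h1344 : Is6 R hG x Ea12.C (χ 5)) (j : Fin 6)
    (K : Finset (Fin 8)) (hK : Inn K) :
    mu (PJ cs h T X (K : Set (Fin 8))) (χ j) = ((look (VV5 j) K : ℕ) : ℂ) := by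
  fin_cases j
  · show mu (PJ cs h T X (K : Set (Fin 8))) (χ 0) = ((look V1 K : ℕ) : ℂ)
    rw [h0, mu_triv, look_V1 K hK, Nat.cast_one]
  · exact mu_8 R hG hF hx hq hK h8
  · exact mu_84 R hG hF hx hq hK h84
  · exact mu_112 R hG hF hx hq hK h112
  · exact mu_567 R hG hF hx hq hK h567
  · exact mu_1344 R hG hF hx hq hK h1344

/-- **The members for `Φ₁₀`** -/
theorem mu_ten {χ : Fin 6 → Y → ℂ} (h0 : χ 0 = 1) (h8 : Is7 R hG x TabE8a.c1 (χ 1)) (h84 : Is7 R hG x TabE8a.c3 (χ 2))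
    (h567 : Is6 R hG x E567.C (χ 3)) (h448 : Is6 R hG x E448.C (χ 4)) (h1400 : Is6 R hG x E1400.C (χ 5)) (j : Fin 6)
    (K : Finset (Fin 8)) (hK : Inn K) :
    mu (PJ cs h T X (K : Set (Fin 8))) (χ j) = ((look (VV10 j) K : ℕ) : ℂ) := by
  fin_cases j
  · show mu (PJ cs h T X (K : Set (Fin 8))) (χ 0) = ((look V1 K : ℕ) : ℂ)
    rw [h0, mu_triv, look_V1 K hK, Nat.cast_one]
  · exact mu_8 R hG hF hx hq hK h8
  · exact mu_84 R hG hF hx hq hK h84
  · exact mu_567 R hG hF hx hq hK h567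
  · exact mu_448 R hG hF hx hq hK h448
  · exact mu_1400 R hG hF hx hq hK h1400

end Mem

end Cfsg.Agent.H632.LB.Val.Mat
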