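import Cfsg.Agent.H594.LB.Inv
import Cfsg.Agent.H594.LB.Mu
import Cfsg.Agent.H632.LB.Const
import Cfsg.Agent.H632.LB.FamAll

/-!
# `E₈`: the multiplicities `⟨χ, 1_{P_K}⟩`, `K ⊆ {0,1,2,4,5}` or `K ⊆ {0,2,4,5,6}` (helper632, for S4879)

* `look V K` : the entry of `K` in the table `V`;
* `fj6`, `fj7` : the values of `FJ` at `1`;
* `mu6`, `mu7` : the multiplicities.
-/

set_option autoImplicit false
set_option linter.unusedSectionVars false
set_option maxRecDepth 20000

namespace Cfsg.Agent.H632.LB.Val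

open Cfsg Cfsg.Agent.H967.Sph Cfsg.Agent.H317.PQ Cfsg.Agent.H64.Dl.Sph
  Cfsg.Agent.H996.Eight Cfsg.Agent.H996.Eight.Cert Cfsg.Agent.H996.PQ Cfsg.Agent.H996.PQ.Big
open Cfsg.Agent.H790.PQ Cfsg.Agent.H594.PQ Cfsg.Agent.H594.LB.Mem Cfsg.Agent.H329.LB Cfsg.Agent.H594.LB.Mu
open CoxeterSystem Cfsg.Agent.ChevalleyStructure.CoxeterGeom Cfsg.Agent.Tits.Roots Cfsg.Agent.Tits.Core
  Cfsg.Agent.Nodes.Reps Cfsg.Agent.Nodes.BNOf Cfsg.Agent.Nodes.Bruhat Cfsg.Agent.Nodes.LeviDec
open Cfsg.Agent.H439.CC (mu)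
open Cfsg.Agent.H632.LB Cfsg.Agent.H632.LB.Fam Cfsg.Agent.H632.PQ.Fast

universe u v

/-- the code of a set -/
def codeL (L : List ℕ) : ℕ := L.foldr (fun i a => 2 ^ i + a) 0

/-- the code of a set -/
def code (K : Finset (Fin 8)) : ℕ := ∑ i ∈ K, 2 ^ (i : ℕ)

/-- the sets `K ⊆ {0,1,2,4,5}` or `K ⊆ {0,2,4,5,6}` -/
def Inn (K : Finset (Fin 8)) : Prop := K ⊆ {0, 1, 2, 4, 5} ∨ K ⊆ {0, 2, 4, 5, 6}

instance : DecidablePred Inn := fun K => inferInstanceAs (Decidable (K ⊆ {0, 1, 2, 4, 5} ∨ K ⊆ {0, 2, 4, 5, 6}))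

/-- the entry of a table -/
def look (V : ℕ) (K : Finset (Fin 8)) : ℕ := V / 2 ^ (16 * code K) % 2 ^ 16

theorem mem6 : ∀ K : Finset (Fin 8), Inn K → ∃ x ∈ dat6,
    (∀ i : Fin 8, i ∈ K ↔ (i : ℕ) ∈ x.1) ∧ (∀ i ∈ x.1, i < 8) ∧ code K = codeL x.1 := by decide +kernel

theorem mem7 : ∀ K : Finset (Fin 8), Inn K → ∃ x ∈ dat7,
    (∀ i : Fin 8, i ∈ K ↔ (i : ℕ) ∈ x.1) ∧ (∀ i ∈ x.1, i < 8) ∧ code K = codeL x.1 := by decide +kernel

/-- the sizes of the classes, node `6` -/
def kv6 : Fin 26 → ℤ := ![1, 54, 216, 54, 540, 432, 432, 27, 864, 2, 720, 54, 54, 540, 864, 54, 54, 432, 432, 27, 540, 216, 2, 54, 54, 1]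

/-- the sizes of the classes, node `7` -/
def kv7 : Fin 5 → ℤ := ![1, 56, 126, 56, 1]

theorem kv6_eq : ∀ c, evZ 1 (TabE8c.data.kk c) = kv6 c := by decide +kernel

theorem kv7_eq : ∀ c, evZ 1 (TabE8a.data.kk c) = kv7 c := by decide +kernel

/-- the test of a table of multiplicities -/
def ChkV {m : ℕ} (dat : List (List ℕ × ℕ × ℕ)) (kv vv : Fin m → ℤ) (o : Fin m) (V : ℕ) : Prop :=
  vv o ≠ 0 ∧ ∑ c, kv c * vv c ^ 2 ≠ 0 ∧ ∀ x ∈ dat, ((V / 2 ^ (16 * codeL x.1) % 2 ^ 16 : ℕ) : ℤ) * ∑ c, kv c * vv c ^ 2 =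
    vv o * ∑ c : Fin m, ((x.2.2 / 2 ^ (16 * (c : ℕ)) % 2 ^ 16 : ℕ) : ℤ) * vv c

instance {m : ℕ} (dat : List (List ℕ × ℕ × ℕ)) (kv vv : Fin m → ℤ) (o : Fin m) (V : ℕ) :
    Decidable (ChkV dat kv vv o V) := by
  unfold ChkV
  infer_instance

theorem fj6 {nu : Fin 26 → List ℤ} {vv : Fin 26 → ℤ} (hvv : ∀ c, evZ 1 (nu c) = vv c) {V : ℕ}
    (hV : ChkV dat6 kv6 vv 0 V) {K : Finset (Fin 8)} (hK : Inn K) :
    FJ TabE8c.data.t TabE8c.data.wl nu (K : Set (Fin 8)) 1 = ((look V K : ℕ) : ℤ) := by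
  obtain ⟨x, hx, h1, h2, h3⟩ := mem6 K hK
  obtain ⟨h4, h5, h6⟩ := dat6_ok x hx
  obtain ⟨h7, h8, h9⟩ := hV
  refine FJ_val acc6 h1 h2 h4 H594.LB.Inv.inv6_o H594.LB.Inv.inv6_st (by norm_num) (by norm_num) h5 h6
    TabE8c.data.chkK cls_o ⟨by rw [hvv]; exact h7, ?_, ?_⟩
  · simp only [hvv, kv6_eq]
    exact h8
  · simp only [hvv, kv6_eq, look, h3]
    exact h9 x hx

theorem fj7 {nu : Fin 5 → List ℤ} {vv : Fin 5 → ℤ} (hvv : ∀ c, evZ 1 (nu c) = vv c) {V : ℕ}
    (hV : ChkV dat7 kv7 vv 0 V) {K : Finset (Fin 8)} (hK : Inn K) :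
    FJ TabE8a.data.t TabE8a.data.wl nu (K : Set (Fin 8)) 1 = ((look V K : ℕ) : ℤ) := by
  obtain ⟨x, hx, h1, h2, h3⟩ := mem7 K hK
  obtain ⟨h4, h5, h6⟩ := dat7_ok x hx
  obtain ⟨h7, h8, h9⟩ := hV
  refine FJ_val acc7 h1 h2 h4 H594.LB.Inv.inv7_o H594.LB.Inv.inv7_st (by norm_num) (by norm_num) h5 h6
    TabE8a.data.chkK clsP ⟨by rw [hvv]; exact h7, ?_, ?_⟩
  · simp only [hvv, kv7_eq]
    exact h8
  · simp only [hvv, kv7_eq, look, h3]
    exact h9 x hx

theorem nz {p : List ℤ} (h2 : pPos p = true) (h1 : evZ 1 p ≠ 0) (x : ℕ) (hx : 1 ≤ x) : ev (x : ℚ) p ≠ 0 := by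
  rcases Nat.lt_or_ge 1 x with h | h
  · exact (ev_pos (by exact_mod_cast h) h2).ne'
  · obtain rfl : x = 1 := by omega
    have h3 := evZ_cast 1 p
    push_cast at h3 ⊢
    rw [← h3]
    exact_mod_cast h1

section Mu

variable {W : Type v} {Y : Type u} [Group W] [Finite W] [Group Y] [Finite Y]
    {M : CoxeterMatrix (Fin 8)} {cs : CoxeterSystem M W} {h : IsCartan M TabE8c.A} {p : ℕ} {T : Subgroup Y}
    {n : Fin 8 → Y} {X : (Fin 8 → ℤ) → Subgroup Y} (R : RGD cs h p T n X) (hG : GG cs h T X = ⊤)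

variable (hF : Fam cs h) {x : ℕ} (hx : 2 ≤ x) (hq : ∀ i, Nat.card (X (sr i)) = x)

include hF hx hq in
theorem mu6 {C : Crt 26} (hC : ok1 C 0 TabE8c.data.bb TabE8c.data.kk) (hU : Uq C.th C.nu 0 TabE8c.data.bb)
    (hD : pDvd C.den C.dn) (hp : pPos (C.nu 0) = true) {vv : Fin 26 → ℤ} (hvv : ∀ c, evZ 1 (C.nu c) = vv c) {V : ℕ}
    (hV : ChkV dat6 kv6 vv 0 V) {K : Finset (Fin 8)} (hK : Inn K) {χ : Y → ℂ} (H : Is6 R hG x C χ) :
    mu (PJ cs h T X (K : Set (Fin 8))) χ = ((look V K : ℕ) : ℂ) := by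
  have h1 := fj6 hvv hV hK
  rw [← cls_o] at hC hU
  have h2 := mu_const R hG TabE8c.data hF hx hq e_eq hC hU hD
    (fun x hx => by rw [cls_o]; exact nz hp (by rw [hvv]; exact hV.1) x hx) (χ := χ) (by rw [cls_o]; exact H)
    (K : Set (Fin 8)) h1
  rw [h2]
  push_cast
  rfl

include hF hx hq in
theorem mu7 {C : Crt 5} (hC : ok1 C 0 TabE8a.data.bb TabE8a.data.kk) (hU : Uq C.th C.nu 0 TabE8a.data.bb)
    (hD : pDvd C.den C.dn) (hp : pPos (C.nu 0) = true) {vv : Fin 5 → ℤ} (hvv : ∀ c, evZ 1 (C.nu c) = vv c) {V : ℕ}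
    (hV : ChkV dat7 kv7 vv 0 V) {K : Finset (Fin 8)} (hK : Inn K) {χ : Y → ℂ} (H : Is7 R hG x C χ) :
    mu (PJ cs h T X (K : Set (Fin 8))) χ = ((look V K : ℕ) : ℂ) := by
  have h1 : FJ dataP.t dataP.wl C.nu (K : Set (Fin 8)) 1 = ((look V K : ℕ) : ℤ) := fj7 hvv hV hK
  have hC' : ok1 C (dataP.t.cls dataP.t.o) dataP.bb dataP.kk := by rw [clsP]; exact hC
  have hU' : Uq C.th C.nu (dataP.t.cls dataP.t.o) dataP.bb := by rw [clsP]; exact hU
  have h2 := mu_const R hG dataP hF hx hq eP hC' hU' hD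
    (fun x hx => by rw [clsP]; exact nz hp (by rw [hvv]; exact hV.1) x hx) (χ := χ) (by rw [clsP]; exact H)
    (K : Set (Fin 8)) h1
  rw [h2]
  push_cast
  rfl

end Mu

/-- the values at `1`, `567` -/
def vv567 : Fin 26 → ℤ := ![54, 5, -4, -6, 1, 2, 2, -2, -1, -27, 0, 1, 1, -2, -1, 1, 1, 2, 2, -2, 1, -4, -27, -6, 5, 54]

theorem vv567_eq : ∀ c, evZ 1 (E567.C.nu c) = vv567 c := by decide +kernel

/-- the multiplicities of `567` -/
def V567 : ℕ := 0x1e0041000000000041006e00000000000000000000000000000000000000000045008700000000008700d800000000000000000000000000000000000000000052009c00000000009c00f60000000000000000000000000000000000000000008700f60000000000f6017a00000000000000000000000000000000002800520045008700520087008700d8000000000000000000000000000000000052009c008700f6009c00f600f6017a000000000000000000000000000000000052009c008700f6009c00f600f6017a00000000000000000000000000000000008700f600d8017a00f6017a017a0237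

theorem V567_ok : ChkV dat6 kv6 vv567 0 V567 := by decide +kernel

theorem pos567 : pPos (E567.C.nu 0) = true := by decide +kernel

/-- the values at `1`, `1344` -/
def vv1344 : Fin 26 → ℤ := ![216, -20, 4, 16, 0, -2, -2, -8, 1, -108, 0, 4, 4, 0, 1, 4, 4, -2, -2, -8, 0, 4, -108, 16, -20, 216]

theorem vv1344_eq : ∀ c, evZ 1 (Ea12.C.nu c) = vv1344 c := by decide +kernel

/-- the multiplicities of `1344` -/
def V1344 : ℕ := 0x30006b00000000006b00b40000000000000000000000000000000000000000007800ff0000000000ff01a40000000000000000000000000000000000000000009b01400000000001400208000000000000000000000000000000000000000000ff02080000000002080348000000000000000000000000000000000049009b007800ff009b00ff00ff01a400000000000000000000000000000000009b014000ff0208014002080208034800000000000000000000000000000000009b014000ff020801400208020803480000000000000000000000000000000000ff020801a403480208034803480540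

theorem V1344_ok : ChkV dat6 kv6 vv1344 0 V1344 := by decide +kernel

theorem pos1344 : pPos (Ea12.C.nu 0) = true := by decide +kernel

/-- the values at `1`, `448` -/
def vv448 : Fin 26 → ℤ := ![72, -8, 2, 8, 0, -2, -2, -8, 2, -72, 0, 8, 8, 0, -2, -8, -8, 2, 2, 8, 0, -2, 72, -8, 8, -72]

theorem vv448_eq : ∀ c, evZ 1 (E448.C.nu c) = vv448 c := by decide +kernel

/-- the multiplicities of `448` -/
def V448 : ℕ := 0x12002400000000002400380000000000000000000000000000000000000000002a0056000000000056008800000000000000000000000000000000000000000038007000000000007000b00000000000000000000000000000000000000000005600b00000000000b0011800000000000000000000000000000000001d0038002a005600380056005600880000000000000000000000000000000000380070005600b0007000b000b001180000000000000000000000000000000000380070005600b0007000b000b0011800000000000000000000000000000000005600b00088011800b00118011801c0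

theorem V448_ok : ChkV dat6 kv6 vv448 0 V448 := by decide +kernel

theorem pos448 : pPos (E448.C.nu 0) = true := by decide +kernel

/-- the values at `1`, `1400` -/
def vv1400 : Fin 26 → ℤ := ![540, -30, 0, 0, 6, 0, 0, -60, 0, 270, 0, -30, -30, 0, 0, 30, 30, 0, 0, 60, -6, 0, -270, 0, 30, -540]

theorem vv1400_eq : ∀ c, evZ 1 (E1400.C.nu c) = vv1400 c := by decide +kernel

/-- the multiplicities of `1400` -/
def V1400 : ℕ := 0x31006f00000000006f00be0000000000000000000000000000000000000000007c010900000000010901b80000000000000000000000000000000000000000009f014a00000000014a021c00000000000000000000000000000000000000000109021c00000000021c036b00000000000000000000000000000000004a009f007c0109009f0109010901b800000000000000000000000000000000009f014a0109021c014a021c021c036b00000000000000000000000000000000009f014a0109021c014a021c021c036b000000000000000000000000000000000109021c01b8036b021c036b036b0578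

theorem V1400_ok : ChkV dat6 kv6 vv1400 0 V1400 := by decide +kernel

theorem pos1400 : pPos (E1400.C.nu 0) = true := by decide +kernel

/-- the values at `1`, `8` -/
def vv8 : Fin 5 → ℤ := ![2, 1, 0, -1, -2]

theorem vv8_eq : ∀ c, evZ 1 (TabE8a.c1.nu c) = vv8 c := by decide +kernel

/-- the multiplicities of `8` -/
def V8 : ℕ := 0x3000400000000000400050000000000000000000000000000000000000000000400050000000000050006000000000000000000000000000000000000000000040005000000000005000600000000000000000000000000000000000000000005000600000000000600070000000000000000000000000000000000030004000400050004000500050006000000000000000000000000000000000004000500050006000500060006000700000000000000000000000000000000000400050005000600050006000600070000000000000000000000000000000000050006000600070006000700070008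

theorem V8_ok : ChkV dat7 kv7 vv8 0 V8 := by decide +kernel

theorem pos8 : pPos (TabE8a.c1.nu 0) = true := by decide +kernel

/-- the values at `1`, `35` -/
def vv35 : Fin 5 → ℤ := ![14, 2, -2, 2, 14]

theorem vv35_eq : ∀ c, evZ 1 (TabE8a.c2.nu c) = vv35 c := by decide +kernel

/-- the multiplicities of `35` -/
def V35 : ℕ := 0x7000b00000000000b000f0000000000000000000000000000000000000000000b001000000000001000150000000000000000000000000000000000000000000c00110000000000110016000000000000000000000000000000000000000000100016000000000016001c000000000000000000000000000000000008000c000b0010000c00100010001500000000000000000000000000000000000c001100100016001100160016001c00000000000000000000000000000000000c001100100016001100160016001c00000000000000000000000000000000001000160015001c0016001c001c0023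

theorem V35_ok : ChkV dat7 kv7 vv35 0 V35 := by decide +kernel

theorem pos35 : pPos (TabE8a.c2.nu 0) = true := by decide +kernel

/-- the values at `1`, `84` -/
def vv84 : Fin 5 → ℤ := ![42, -3, 2, -3, 42]

theorem vv84_eq : ∀ c, evZ 1 (TabE8a.c3.nu c) = vv84 c := by decide +kernel

/-- the multiplicities of `84` -/
def V84 : ℕ := 0xc0013000000000013001a00000000000000000000000000000000000000000014001f00000000001f002a000000000000000000000000000000000000000000170023000000000023002f0000000000000000000000000000000000000000001f002f00000000002f003f00000000000000000000000000000000000f00170014001f0017001f001f002a0000000000000000000000000000000000170023001f002f0023002f002f003f0000000000000000000000000000000000170023001f002f0023002f002f003f00000000000000000000000000000000001f002f002a003f002f003f003f0054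

theorem V84_ok : ChkV dat7 kv7 vv84 0 V84 := by decide +kernel

theorem pos84 : pPos (TabE8a.c3.nu 0) = true := by decide +kernel

/-- the values at `1`, `112` -/
def vv112 : Fin 5 → ℤ := ![56, -2, 0, 2, -56]

theorem vv112_eq : ∀ c, evZ 1 (TabE8a.c4.nu c) = vv112 c := by decide +kernel

/-- the multiplicities of `112` -/
def V112 : ℕ := 0xf001900000000001900240000000000000000000000000000000000000000001a002900000000002900390000000000000000000000000000000000000000001d002d00000000002d003e00000000000000000000000000000000000000000029003e00000000003e0054000000000000000000000000000000000012001d001a0029001d00290029003900000000000000000000000000000000001d002d0029003e002d003e003e005400000000000000000000000000000000001d002d0029003e002d003e003e0054000000000000000000000000000000000029003e00390054003e005400540070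

theorem V112_ok : ChkV dat7 kv7 vv112 0 V112 := by decide +kernel

theorem pos112 : pPos (TabE8a.c4.nu 0) = true := by decide +kernel

section Mu

variable {W : Type v} {Y : Type u} [Group W] [Finite W] [Group Y] [Finite Y]
    {M : CoxeterMatrix (Fin 8)} {cs : CoxeterSystem M W} {h : IsCartan M TabE8c.A} {p : ℕ} {T : Subgroup Y}
    {n : Fin 8 → Y} {X : (Fin 8 → ℤ) → Subgroup Y} (R : RGD cs h p T n X) (hG : GG cs h T X = ⊤)

variable (hF : Fam cs h) {x : ℕ} (hx : 2 ≤ x) (hq : ∀ i, Nat.card (X (sr i)) = x) {K : Finset (Fin 8)} (hK : Inn K)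
  {χ : Y → ℂ}

include hF hx hq hK

/-- **`567`** -/
theorem mu_567 (H : Is6 R hG x E567.C χ) : mu (PJ cs h T X (K : Set (Fin 8))) χ = ((look V567 K : ℕ) : ℂ) :=
  mu6 R hG hF hx hq E567.ok E567.uq E567.dvd pos567 vv567_eq V567_ok hK H

/-- **`1344`** -/
theorem mu_1344 (H : Is6 R hG x Ea12.C χ) : mu (PJ cs h T X (K : Set (Fin 8))) χ = ((look V1344 K : ℕ) : ℂ) :=
  mu6 R hG hF hx hq Ea12.ok Ea12.uq Ea12.dvd pos1344 vv1344_eq V1344_ok hK H

/-- **`448`** -/
theorem mu_448 (H : Is6 R hG x E448.C χ) : mu (PJ cs h T X (K : Set (Fin 8))) χ = ((look V448 K : ℕ) : ℂ) :=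
  mu6 R hG hF hx hq E448.ok1 E448.uq E448.dvd pos448 vv448_eq V448_ok hK H

/-- **`1400`** -/
theorem mu_1400 (H : Is6 R hG x E1400.C χ) : mu (PJ cs h T X (K : Set (Fin 8))) χ = ((look V1400 K : ℕ) : ℂ) :=
  mu6 R hG hF hx hq E1400.ok1 E1400.uq E1400.dvd pos1400 vv1400_eq V1400_ok hK H

/-- **`8`** -/
theorem mu_8 (H : Is7 R hG x TabE8a.c1 χ) : mu (PJ cs h T X (K : Set (Fin 8))) χ = ((look V8 K : ℕ) : ℂ) :=
  mu7 R hG hF hx hq (ok1_of_ok TabE8a.ok1) (uq_of_ok TabE8a.ok1) TabE8a.dvd1 pos8 vv8_eq V8_ok hK H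

/-- **`35`** -/
theorem mu_35 (H : Is7 R hG x TabE8a.c2 χ) : mu (PJ cs h T X (K : Set (Fin 8))) χ = ((look V35 K : ℕ) : ℂ) :=
  mu7 R hG hF hx hq (ok1_of_ok TabE8a.ok2) (uq_of_ok TabE8a.ok2) TabE8a.dvd2 pos35 vv35_eq V35_ok hK H

/-- **`84`** -/
theorem mu_84 (H : Is7 R hG x TabE8a.c3 χ) : mu (PJ cs h T X (K : Set (Fin 8))) χ = ((look V84 K : ℕ) : ℂ) :=
  mu7 R hG hF hx hq (ok1_of_ok TabE8a.ok3) (uq_of_ok TabE8a.ok3) TabE8a.dvd3 pos84 vv84_eq V84_ok hK H

/-- **`112`** -/
theorem mu_112 (H : Is7 R hG x TabE8a.c4 χ) : mu (PJ cs h T X (K : Set (Fin 8))) χ = ((look V112 K : ℕ) : ℂ) :=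
  mu7 R hG hF hx hq (ok1_of_ok TabE8a.ok4) (uq_of_ok TabE8a.ok4) TabE8a.dvd4 pos112 vv112_eq V112_ok hK H

end Mu

end Cfsg.Agent.H632.LB.Val
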